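import Cfsg.Agent.H1.S8.RuDeg

/-!
# S4908, row Ru: the degrees 29, 8192, 16384 do not occur (helper365)

With `H1.S8.RuDeg`: `adm_of` : a numerical condition on the degrees of the Rudvalis group.
-/

set_option autoImplicit false
set_option maxRecDepth 100000

namespace Cfsg.Agent.H365.S8.Ru

open Cfsg Subgroup Cfsg.Agent.SporadicB Cfsg.Agent.Characters Cfsg.Agent.H489.Ore.Ru Cfsg.Agent.H1.S8.RuDeg
  Cfsg.Agent.H65.Ore

/-- the multiplicities of the characters of the four-group of `C(13)` -/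
theorem split [Finite RuOrder.H] [IsSimpleGroup RuOrder.H] (χ : IrrCharacter RuOrder.H) (hχ : (χ : RuOrder.H → ℂ) ≠ 1) :
    ∃ m₁ m₂ a b : ℕ, charDegree (χ : RuOrder.H → ℂ) = m₁ + 3 * m₂ ∧ (m₁ : ℤ) - m₂ = a - b ∧
      29 * (a + b) ≤ charDegree (χ : RuOrder.H → ℂ) + 148 ∧ okp 13 4 m₁ m₂ = true := by
  obtain ⟨a, b, hab, hab2⟩ := inv_val χ hχ
  obtain ⟨P, K, L13⟩ := loc13
  obtain ⟨m₁, m₂, e1, e2, e3⟩ := L13.cases χ
  have hdeg := cast_deg χ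
  refine ⟨m₁, m₂, a, b, ?_, ?_, hab2, ?_⟩
  · rw [hdeg] at e1
    exact_mod_cast e1
  · rw [e2] at hab
    exact_mod_cast hab
  · apply ok13
    rcases e3 with h | h | h | ⟨h, δ, h', h'', -⟩
    exacts [Or.inl h, Or.inr (Or.inl h), Or.inr (Or.inr (Or.inl h)), Or.inr (Or.inr (Or.inr ⟨h, δ, h', h''⟩))]

theorem okp_mod {m₁ m₂ : ℕ} (h : okp 13 4 m₁ m₂ = true) :
    ((m₁ % 13 = 1 ∨ m₁ % 13 = 12) ∧ m₂ % 13 = 0) ∨ (m₁ % 13 = 0 ∧ (m₂ % 13 = 0 ∨ m₂ % 13 = 1 ∨ m₂ % 13 = 12 ∨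
      m₂ % 13 = 4 ∨ m₂ % 13 = 9)) := by
  simp only [okp, Bool.or_eq_true, Bool.and_eq_true, Nat.beq_eq] at h
  omega

/-- three degrees do not occur -/
theorem not_deg {d : ℕ} (hd : d ∈ charDegrees RuOrder.H) (h : d = 29 ∨ d = 8192 ∨ d = 16384) : False := by
  have hfin : Finite RuOrder.H := fin_H
  have := simple_H
  obtain ⟨χ, rfl⟩ := hd
  have hne : (χ : RuOrder.H → ℂ) ≠ 1 := by
    intro h1
    have h2 : charDegree (χ : RuOrder.H → ℂ) = 1 := by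
      apply Blocks.Basic.charDegree_of_eq
      rw [h1, Pi.one_apply, Nat.cast_one]
    omega
  obtain ⟨m₁, m₂, a, b, h1, h2, h3, h4⟩ := split χ hne
  generalize charDegree (χ : RuOrder.H → ℂ) = d at *
  have h5 := okp_mod h4
  rcases h with rfl | rfl | rfl
  · have h6 : m₂ ≤ 9 := by omega
    interval_cases m₂ <;> omega
  · omega
  · omega

/-- the numerical condition -/
def adm (d : ℕ) : Bool :=
  Nat.beq d 1 || (Nat.beq (d % 29) 0 && !(Nat.beq d 29)) ||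
    ((Nat.beq (d % 29) 1 || Nat.beq (d % 29) 28 || Nat.beq (d % 29) 14 || Nat.beq (d % 29) 15) &&
      (Nat.beq d 378 || Nat.ble 2016 d) && !(Nat.beq d 8192) && !(Nat.beq d 16384))

theorem adm_of {d : ℕ} (hd : d ∈ charDegrees RuOrder.H) : adm d = true := by
  have h1 := not_deg hd
  simp only [adm, Bool.or_eq_true, Bool.and_eq_true, Bool.not_eq_true', Nat.beq_eq, Nat.ble_eq, ← Bool.not_eq_true]
  rcases cases hd with h | h | ⟨h, h'⟩
  · exact Or.inl (Or.inl h)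
  · exact Or.inl (Or.inr ⟨h, fun h2 => h1 (Or.inl h2)⟩)
  · refine Or.inr ⟨⟨⟨?_, h'⟩, fun h2 => h1 (Or.inr (Or.inl h2))⟩, fun h2 => h1 (Or.inr (Or.inr h2))⟩
    tauto

end Cfsg.Agent.H365.S8.Ru
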