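import Cfsg.Agent.H701.S8.Gen
import Cfsg.Agent.S0000
import Cfsg.Agent.H149.Sp.Base
import Cfsg.Agent.H867.TitsOut
import Cfsg.Agent.H672.SporIM.RankRows
import Cfsg.Agent.H740.Eight.Tits
import Cfsg.Agent.NotCT.Orders
import Cfsg.Agent.H365.S8.RuNum

/-!
# S4908, the box `Ru / SOC1` (helper365, after helper701's `Ly`)

`soc1` : an almost simple group whose degrees are degrees of `Ru` has socle `Ru`.
-/

set_option autoImplicit false

namespace Cfsg.Agent.H365.S8

open Cfsg Subgroup
open Cfsg.Agent.H691.AN (AlmostSimple)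
open Cfsg.Agent.H704.S8 (Deg Soc1)
open Cfsg.Agent.H701.S8 (kill_prime kill_two lie alt)

universe u v

namespace Ru

/-- the prime powers dividing `|Ru|` -/
theorem pp : ((List.range 30).all fun p => (List.range 15).all fun k =>
    !(Nat.blt 1 p) || Nat.beq k 0 || !(Nat.beq (145926144000 % p ^ k) 0) || !(adm (p ^ k)) ||
      !([2, 3, 5, 7, 13, 29].contains p)) = true := by
  decide +kernel

theorem alts : ((List.range 11).all fun m => Nat.blt m 5 || (!(adm ((m - 1) * 1)) && !(adm ((m - 1) * 2)) &&
    !(adm ((m - 1) * 4)))) = true := by decide +kernel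

end Ru

open Ru in
/-- **The box `Ru / SOC1` of S4908.** -/
theorem soc1_ru {X : Type v} [Group X] [Finite X] (hX : Spor.IsoRu X) (D : Set ℕ) (hD : Deg 1 X D) :
    Soc1.{u} D X := by
  rcases hD with hD | ⟨h, -⟩
  swap
  · exact absurd h (by norm_num)
  have hN := NotCT.Orders.ru hX
  have hadm : ∀ d ∈ D, adm d = true := by
    intro d hd
    rw [hD] at hd
    obtain ⟨e⟩ := hX
    have e' := (e.trans Cfsg.Agent.RuLat.Main.equiv).symm
    exact adm_of (H424.DegTools.charDegrees_of_surjective e'.toMonoidHom e'.surjective hd)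
  have hdvd : ∀ d ∈ D, d ∣ 145926144000 := by
    intro d hd
    rw [hD] at hd
    rw [← hN]
    exact H424.DegTools.dvd_card hd
  intro A _ _ S hA hAD
  have hs := hA.simple
  have no : ∀ {d : ℕ}, adm d = false → d ∉ D := fun h hd => by rw [hadm _ hd] at h; exact absurd h (by decide)
  have kp : ∀ {p : ℕ}, p.Prime → ¬ p ∣ 145926144000 → p ∣ Nat.card S → False :=
    fun hp h1 h2 => kill_prime hA hAD hdvd hp h1 h2
  rcases PreUniq.known_cases (Cfsg.Agent.S0000.result (G := S)) with h | ⟨m, hm, ⟨e⟩⟩ | ⟨p, hp, h⟩ | h | h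
  · exfalso
    have : Fact (Nat.card S).Prime := ⟨h⟩
    have : IsCyclic S := isCyclic_of_prime_card (p := Nat.card S) rfl
    exact hA.nonab inferInstance
  · exfalso
    have h11 : m < 11 := by
      by_contra hcon
      refine kp (p := 11) (by norm_num) (by norm_num) ?_
      rw [Nat.card_congr e.toEquiv]
      have h1 := H548.RowAlt.card_alt (n := m) (by omega)
      have h2 : 11 ∣ m.factorial := (Nat.Prime.dvd_factorial (by norm_num)).2 (by omega)
      rw [← h1] at h2
      exact (Nat.Coprime.dvd_mul_left (by norm_num)).1 h2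
    obtain ⟨t, ht, htD⟩ := alt hA hAD hm e
    have h1 := List.all_eq_true.1 alts m (List.mem_range.2 h11)
    simp only [Bool.or_eq_true, Bool.and_eq_true, Bool.not_eq_true', Nat.blt_eq] at h1
    rcases h1 with h1 | ⟨⟨h1, h2⟩, h3⟩
    · omega
    · have h4 : t = 1 ∨ t = 2 ∨ t = 4 := by
        have h5 := Nat.le_of_dvd (by norm_num) ht
        interval_cases t <;> simp_all
      rcases h4 with rfl | rfl | rfl
      · exact no h1 htD
      · exact no h2 htD
      · exact no h3 htD
  · exfalso
    obtain ⟨k, hk, hkD⟩ := lie hA hAD hp h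
    have h1 := hdvd _ hkD
    have hpL : p ∈ [2, 3, 5, 7, 13, 29] := by
      have h2 : p ∣ 145926144000 := (dvd_pow_self p hk.ne').trans h1
      rw [show 145926144000 = 2 ^ 14 * 3 ^ 3 * 5 ^ 3 * 7 * 13 * 29 by norm_num,
        hp.dvd_mul, hp.dvd_mul, hp.dvd_mul, hp.dvd_mul, hp.dvd_mul] at h2
      rcases h2 with ((((h | h) | h) | h) | h) | h
      · rw [(Nat.prime_dvd_prime_iff_eq hp (by norm_num)).1 (hp.dvd_of_dvd_pow h)]; decide
      · rw [(Nat.prime_dvd_prime_iff_eq hp (by norm_num)).1 (hp.dvd_of_dvd_pow h)]; decide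
      · rw [(Nat.prime_dvd_prime_iff_eq hp (by norm_num)).1 (hp.dvd_of_dvd_pow h)]; decide
      · rw [(Nat.prime_dvd_prime_iff_eq hp (by norm_num)).1 h]; decide
      · rw [(Nat.prime_dvd_prime_iff_eq hp (by norm_num)).1 h]; decide
      · rw [(Nat.prime_dvd_prime_iff_eq hp (by norm_num)).1 h]; decide
    have hp30 : p < 30 := by
      simp only [List.mem_cons, List.not_mem_nil, or_false] at hpL
      omega
    have hk15 : k < 15 := by
      by_contra hcon
      have h3 : p ^ 15 ∣ 145926144000 := (pow_dvd_pow p (by omega)).trans h1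
      simp only [List.mem_cons, List.not_mem_nil, or_false] at hpL
      rcases hpL with rfl | rfl | rfl | rfl | rfl | rfl <;> revert h3 <;> decide +kernel
    have h2 := List.all_eq_true.1 (List.all_eq_true.1 pp p (List.mem_range.2 hp30)) k (List.mem_range.2 hk15)
    simp only [Bool.or_eq_true, Bool.not_eq_true', Nat.beq_eq] at h2
    rcases h2 with (((h2 | h2) | h2) | h2) | h2
    · have h3 : Nat.blt 1 p = true := by rw [Nat.blt_eq]; exact hp.one_lt
      rw [h3] at h2
      exact absurd h2 (by decide)
    · omega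
    · have h3 : Nat.beq (145926144000 % p ^ k) 0 = true := by
        rw [Nat.mod_eq_zero_of_dvd h1]
        rfl
      rw [h3] at h2
      exact absurd h2 (by decide)
    · exact no h2 hkD
    · have h3 : [2, 3, 5, 7, 13, 29].contains p = true := List.contains_iff_mem.2 hpL
      rw [h3] at h2
      exact absurd h2 (by decide)
  · exfalso
    have hi : Nat.card (Out S) ∣ 2 := by
      have h2 := H867.TitsOut.card_out_le h
      have h3 : 0 < Nat.card (Out S) := Nat.card_pos
      have h4 : Nat.card (Out S) = 1 ∨ Nat.card (Out S) = 2 := by omega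
      rcases h4 with h4 | h4
      · rw [h4]; exact one_dvd 2
      · rw [h4]
    exact kill_two hA hAD hi (d := 27) (H740.Eight.Tits.mem_27 h) (no (by decide +kernel)) (no (by decide +kernel))
  · have hi := H149.Sp.card_out_dvd_two h
    have kd : ∀ {d : ℕ}, d ∈ charDegrees S → adm d = false → adm (d * 2) = false → False :=
      fun hd h1 h2 => kill_two hA hAD hi hd (no h1) (no h2)
    rcases h with h | h | h | h | h | h | h | h | h | h | h | h | h | h | h | h | h | h | h | h | h | h | h | h | h | h
    · exact (kp (p := 11) (by norm_num) (by norm_num) (by rw [NotCT.Orders.m11 h]; norm_num)).elim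
    · exact (kp (p := 11) (by norm_num) (by norm_num) (by rw [NotCT.Orders.m12 h]; norm_num)).elim
    · exact (kp (p := 11) (by norm_num) (by norm_num) (by rw [NotCT.Orders.m22 h]; norm_num)).elim
    · exact (kp (p := 23) (by norm_num) (by norm_num) (by rw [NotCT.Orders.m23 h]; norm_num)).elim
    · exact (kp (p := 23) (by norm_num) (by norm_num) (by rw [NotCT.Orders.m24 h]; norm_num)).elim
    · exact (kp (p := 19) (by norm_num) (by norm_num) (by rw [NotCT.Orders.j1 h]; norm_num)).elim
    · exact (kd (d := 36) (H672.SporIM.j2 h).2 (by decide +kernel) (by decide +kernel)).elim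
    · exact (kp (p := 17) (by norm_num) (by norm_num) (by rw [NotCT.Orders.j3 h]; norm_num)).elim
    · exact (kp (p := 43) (by norm_num) (by norm_num) (by rw [NotCT.Orders.j4 h]; norm_num)).elim
    · exact (kp (p := 11) (by norm_num) (by norm_num) (by rw [NotCT.Orders.co1 h]; norm_num)).elim
    · exact (kp (p := 23) (by norm_num) (by norm_num) (by rw [NotCT.Orders.co2 h]; norm_num)).elim
    · exact (kp (p := 23) (by norm_num) (by norm_num) (by rw [NotCT.Orders.co3 h]; norm_num)).elim
    · exact (kp (p := 11) (by norm_num) (by norm_num) (by rw [NotCT.Orders.mcl h]; norm_num)).elim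
    · exact (kp (p := 11) (by norm_num) (by norm_num) (by rw [NotCT.Orders.hs h]; norm_num)).elim
    · exact (kp (p := 11) (by norm_num) (by norm_num) (by rw [NotCT.Orders.suz h]; norm_num)).elim
    · exact (kp (p := 17) (by norm_num) (by norm_num) (by rw [NotCT.Orders.he h]; norm_num)).elim
    · obtain ⟨e⟩ := h
      obtain ⟨f⟩ := hX
      exact ⟨e.trans f.symm⟩
    · exact (kp (p := 19) (by norm_num) (by norm_num) (by rw [NotCT.Orders.on h]; norm_num)).elim
    · exact (kp (p := 11) (by norm_num) (by norm_num) (by rw [NotCT.Orders.ly h]; norm_num)).elim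
    · exact (kp (p := 11) (by norm_num) (by norm_num) (by rw [NotCT.Orders.fi22 h]; norm_num)).elim
    · exact (kp (p := 17) (by norm_num) (by norm_num) (by rw [NotCT.Orders.fi23 h]; norm_num)).elim
    · exact (kp (p := 17) (by norm_num) (by norm_num) (by rw [NotCT.Orders.fi24 h]; norm_num)).elim
    · exact (kp (p := 19) (by norm_num) (by norm_num) (by rw [NotCT.Orders.hn h]; norm_num)).elim
    · exact (kp (p := 19) (by norm_num) (by norm_num) (by rw [NotCT.Orders.th h]; norm_num)).elim
    · exact (kp (p := 17) (by norm_num) (by norm_num) (by rw [NotCT.Orders.b h]; norm_num)).elim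
    · exact (kp (p := 17) (by norm_num) (by norm_num) (by rw [NotCT.Orders.m h]; norm_num)).elim

end Cfsg.Agent.H365.S8
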