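import Cfsg.Agent.H212.LD.Tools
import Cfsg.Agent.H812.SuzSeven

/-!
# `Suz` : the values of a character of degree 110 on the elements of order 3 commuting with an element of order 7

`C(P) = P × K`, `K ≅ A₄`, `P` a Sylow 7-subgroup. With `n_θ` the multiplicity of `θ` in the restriction of `ψ` to `K`,
`n_θ ≡ 0` modulo 7 for the characters `θ` of `K` which are not conjugate to the character under `ψ`, and
`∑ n_θ θ(1) = 110`, `∑ n_θ θ(z) = ψ (z)`. This excludes `ψ (z) = -25`.
-/

set_option autoImplicit false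
set_option linter.unusedSectionVars false

open Cfsg Subgroup
open scoped ComplexConjugate

namespace Cfsg.Agent.H365.S8.SuzSevenVal

open Cfsg.Agent.Characters.Core
open Cfsg.Agent.SmallSimple.ThetaSetup Cfsg.Agent.SmallSimple.ThetaOrtho
open Cfsg.Agent.SmallSimple.ThetaCount Cfsg.Agent.SmallSimple.TheoremCCor

universe u

section a4

variable {K : Type u} [Group K] [Finite K]

theorem alt_cent : ∀ a : alternatingGroup (Fin 4), a ^ 3 = 1 → a ≠ 1 →
    (Finset.univ.filter fun b : alternatingGroup (Fin 4) => b * a = a * b).card = 3 := by decide +kernel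

theorem card_cent_a4 (g : K ≃* alternatingGroup (Fin 4)) {z : K} (hz : orderOf z = 3) :
    Nat.card (centralizer ({z} : Set K)) = 3 := by
  classical
  have h1 : (g z) ^ 3 = 1 := by rw [← map_pow, ← hz, pow_orderOf_eq_one, map_one]
  have h2 : g z ≠ 1 := by
    intro h
    have h3 : z = 1 := g.injective (by rw [h, map_one])
    rw [h3, orderOf_one] at hz
    omega
  have h3 := alt_cent (g z) h1 h2
  rw [← h3, ← Fintype.card_coe, ← Nat.card_eq_fintype_card]
  refine Nat.card_congr ⟨fun b => ⟨g b.1, ?_⟩, fun b => ⟨g.symm b.1, ?_⟩, fun b => ?_, fun b => ?_⟩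
  · have hb := b.2
    rw [mem_centralizer_singleton_iff] at hb
    simp only [Finset.mem_filter, Finset.mem_univ, true_and]
    rw [← map_mul, hb, map_mul]
  · have hb := b.2
    simp only [Finset.mem_filter, Finset.mem_univ, true_and] at hb
    rw [mem_centralizer_singleton_iff]
    apply g.injective
    rw [map_mul, map_mul, g.apply_symm_apply, hb]
  · exact Subtype.ext (g.symm_apply_apply _)
  · exact Subtype.ext (g.apply_symm_apply _)

/-- The column of the elements of order 3. -/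
theorem exists_table (g : K ≃* alternatingGroup (Fin 4)) {z : K} (hz : orderOf z = 3) :
    ∃ o a b θ : IrrCharacter K, (o : K → ℂ) = 1 ∧ (a : K → ℂ) 1 = 1 ∧ (b : K → ℂ) 1 = 1 ∧ (θ : K → ℂ) 1 = 3 ∧
      (∀ (M : Type) [AddCommMonoid M] [Fintype (IrrCharacter K)] (f : IrrCharacter K → M),
        ∑ χ, f χ = f o + f a + f b + f θ) ∧ (θ : K → ℂ) z = 0 ∧ (a : K → ℂ) z + (b : K → ℂ) z = -1 ∧
      ((a : K → ℂ) z).im ≠ 0 ∧ a ≠ o ∧ b ≠ o := by
  classical
  have : Finite (IrrCharacter K) := finite_irr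
  have := Fintype.ofFinite (IrrCharacter K)
  have := Fintype.ofFinite K
  have h4 := H212.LD.card_irr_a4 g
  rw [Nat.card_eq_fintype_card] at h4
  obtain ⟨θ, hθ3, hθ⟩ := H212.LD.exists_theta g
  have hcastK : ∀ θ' : IrrCharacter K, (θ' : K → ℂ) 1 = (charDegree (θ' : K → ℂ) : ℂ) := fun θ' =>
    Blocks.Knorr.charDegree_eq θ'.2
  let o : IrrCharacter K := ⟨1, isIrr_one⟩
  have ho1 : charDegree (o : K → ℂ) = 1 := by
    show charDegree (1 : K → ℂ) = 1
    unfold charDegree
    simp
  have hoθ : o ≠ θ := by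
    intro h
    rw [h, hθ3] at ho1
    omega
  have hc3 : (((Finset.univ : Finset (IrrCharacter K)).erase θ).erase o).card = 2 := by
    rw [Finset.card_erase_of_mem (Finset.mem_erase.2 ⟨hoθ, Finset.mem_univ _⟩),
      Finset.card_erase_of_mem (Finset.mem_univ _), Finset.card_univ, h4]
  obtain ⟨a, b, hab, hABs⟩ := Finset.card_eq_two.1 hc3
  have hsum : ∀ (M : Type) [AddCommMonoid M] [Fintype (IrrCharacter K)] (f : IrrCharacter K → M),
        ∑ χ, f χ = f o + f a + f b + f θ := by
    intro M _ inst f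
    have hi : inst = (inferInstanceAs (Fintype (IrrCharacter K))) := Subsingleton.elim _ _
    have h1 : (∑ χ : IrrCharacter K, f χ) = ∑ χ ∈ (Finset.univ : Finset (IrrCharacter K)), f χ := rfl
    rw [← Finset.add_sum_erase _ _ (Finset.mem_univ θ)]
    rw [← Finset.add_sum_erase _ _ (Finset.mem_erase.2 ⟨hoθ, Finset.mem_univ _⟩)]
    have h2 : (((Finset.univ : Finset (IrrCharacter K)).erase θ).erase o) = {a, b} := by
      rw [← hABs]
      congr!
    rw [h2, Finset.sum_pair hab]
    abel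
  have ma : a ∈ ((Finset.univ : Finset (IrrCharacter K)).erase θ).erase o := by rw [hABs]; simp
  have mb : b ∈ ((Finset.univ : Finset (IrrCharacter K)).erase θ).erase o := by rw [hABs]; simp
  rw [Finset.mem_erase, Finset.mem_erase] at ma mb
  have ha1 : (a : K → ℂ) 1 = 1 := by rw [hcastK, hθ a ma.2.1]; norm_num
  have hb1 : (b : K → ℂ) 1 = 1 := by rw [hcastK, hθ b mb.2.1]; norm_num
  have hθ1 : (θ : K → ℂ) 1 = 3 := by rw [hcastK, hθ3]; norm_num
  -- norms
  have hnorm : ∀ c : IrrCharacter K, (c : K → ℂ) 1 = 1 → (c : K → ℂ) z * conj ((c : K → ℂ) z) = 1 := by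
    intro c hc
    obtain ⟨l, hl⟩ := Characters.Linear.exists_hom_of_isIrrCharacter c.2 hc
    have h2 : (c : K → ℂ) z = (l z : ℂ) := by rw [hl]
    rw [h2, Complex.mul_conj, Complex.normSq_eq_norm_sq, Characters.Linear.norm_hom_apply]
    simp
  have hz1 : z ≠ 1 := by
    intro h
    rw [h, orderOf_one] at hz
    omega
  have hc1 := Cfsg.Agent.S0145.sum_irr_mul_conj z z
  rw [if_pos (IsConj.refl z), card_cent_a4 g hz, hsum, hnorm a ha1, hnorm b hb1] at hc1
  have hoz : ∀ w, (o : K → ℂ) w = 1 := fun w => rfl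
  have hθz : (θ : K → ℂ) z = 0 := by
    rw [hoz] at hc1
    have h2 : (θ : K → ℂ) z * conj ((θ : K → ℂ) z) = 0 := by
      rw [map_one] at hc1
      push_cast at hc1
      linear_combination hc1
    rw [Complex.mul_conj] at h2
    have h3 : Complex.normSq ((θ : K → ℂ) z) = 0 := by exact_mod_cast h2
    exact Complex.normSq_eq_zero.1 h3
  have hc2 := Cfsg.Agent.S0145.sum_irr_mul_conj z 1
  rw [if_neg (fun h => hz1 (isConj_one_right.1 h.symm)), hsum, ha1, hb1, hθz, hoz, hoz] at hc2
  have hab1 : (a : K → ℂ) z + (b : K → ℂ) z = -1 := by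
    rw [map_one] at hc2
    linear_combination hc2
  refine ⟨o, a, b, θ, rfl, ha1, hb1, hθ1, hsum, hθz, hab1, ?_, ma.1, mb.1⟩
  intro him
  have na := hnorm a ha1
  have nb := hnorm b hb1
  rw [Complex.mul_conj] at na nb
  have na' : Complex.normSq ((a : K → ℂ) z) = 1 := by exact_mod_cast na
  have nb' : Complex.normSq ((b : K → ℂ) z) = 1 := by exact_mod_cast nb
  rw [Complex.normSq_apply] at na' nb'
  have hre := congrArg Complex.re hab1
  have him2 := congrArg Complex.im hab1
  rw [Complex.add_re] at hre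
  rw [Complex.add_im] at him2
  simp at hre him2
  rw [him] at na' him2
  have him3 : ((b : K → ℂ) z).im = 0 := by linarith
  rw [him3] at nb'
  have h5 : ((b : K → ℂ) z).re = -1 - ((a : K → ℂ) z).re := by linarith
  rw [h5] at nb'
  nlinarith

end a4

section comp

variable {S : Type u} [Group S] [Finite S]

theorem isComp_equiv [h7 : Fact (Nat.Prime 7)] {P : Sylow 7 S} {K : Subgroup S} (hK : IsComp 7 (P : Subgroup S) K)
    (hP : Nat.card P = 7)
    (f : ↥(centralizer ((P : Subgroup S) : Set S)) ≃* Multiplicative (ZMod 7) × alternatingGroup (Fin 4)) :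
    Nonempty (K ≃* alternatingGroup (Fin 4)) := by
  have hA : Nat.card (alternatingGroup (Fin 4)) = 12 := by
    rw [Nat.card_eq_fintype_card]
    decide
  have h1 := SmallSimple.ThetaOrtho.card_centralizer hK hP
  rw [Nat.card_congr f.toEquiv, Nat.card_prod, hA, Nat.card_congr Multiplicative.toAdd, Nat.card_zmod] at h1
  have h2 : Nat.card K = 12 := by omega
  let g : K →* alternatingGroup (Fin 4) :=
    ((MonoidHom.snd _ _).comp f.toMonoidHom).comp (Subgroup.inclusion hK.le)
  have hg : Function.Injective g := by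
    rw [injective_iff_map_eq_one]
    intro y hy
    have h3 : (f (Subgroup.inclusion hK.le y)).2 = 1 := hy
    have h4 : (f (Subgroup.inclusion hK.le y)) ^ 7 = 1 := by
      apply Prod.ext
      · have h5 := pow_card_eq_one' (x := (f (Subgroup.inclusion hK.le y)).1)
        rw [Nat.card_congr Multiplicative.toAdd, Nat.card_zmod] at h5
        exact h5
      · rw [Prod.pow_snd, h3, one_pow]
        rfl
    have h5 : (Subgroup.inclusion hK.le y) ^ 7 = 1 := by
      apply f.injective
      rw [map_pow, h4, map_one]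
    have h6 : (y : S) ^ 7 = 1 := by
      have := congrArg Subtype.val h5
      simpa using this
    have h7' : ¬ 7 ∣ orderOf (y : S) := ((hK y).1 y.2).2
    have h8 : orderOf (y : S) ∣ 7 := orderOf_dvd_of_pow_eq_one h6
    rcases (Nat.dvd_prime h7.out).1 h8 with h9 | h9
    · exact Subtype.ext (orderOf_eq_one_iff.1 h9)
    · rw [h9] at h7'
      exact absurd (dvd_refl 7) h7'
  have hbij : Function.Bijective g := by
    have hfin : Finite (alternatingGroup (Fin 4)) := inferInstance
    exact (Nat.bijective_iff_injective_and_card g).2 ⟨hg, by rw [h2, hA]⟩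
  exact ⟨MulEquiv.ofBijective g hbij⟩

/-- A multiplicity at a character which `ψ` is not over. -/
theorem exists_mult [h7 : Fact (Nat.Prime 7)] {P : Sylow 7 S} {K : Subgroup S} (hK : IsComp 7 (P : Subgroup S) K)
    (hP : Nat.card P = 7) (ψ : IrrCharacter S) (θ : IrrCharacter K) :
    ∃ n : ℕ, part (θ : K → ℂ) (ψ : S → ℂ) 1 = n ∧ (ψ ∉ Over P (θ : K → ℂ) → n % 7 = 0) := by
  have hch := isCharacter_part hK (isIrr_isCharacter ψ.2) θ.2
  obtain ⟨k, ρ, hρ⟩ := id hch
  obtain ⟨n, hn⟩ : ∃ n : ℕ, part (θ : K → ℂ) (ψ : S → ℂ) 1 = n := by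
    have h1 := congrFun hρ (1 : P)
    rw [Representation.char_one ρ, OneMemClass.coe_one] at h1
    exact ⟨_, h1.symm⟩
  refine ⟨n, hn, fun h => ?_⟩
  have hz : ∀ x : P, x ≠ 1 → part (θ : K → ℂ) (ψ : S → ℂ) x = 0 := fun x hx => part_eq_zero h hx
  obtain ⟨a, ha, m, hm, hma⟩ := H348.PPD.Part.int_of_const h7.out hP hch
    (fun x y hx hy => by rw [hz x hx, hz y hy])
  have hm' : part (θ : K → ℂ) (ψ : S → ℂ) 1 = m := hm
  obtain ⟨x0, hx0, hx01⟩ := exists_ne_one (P := (P : Subgroup S)) hP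
  have hne : (⟨x0, hx0⟩ : P) ≠ 1 := fun h => hx01 (congrArg Subtype.val h)
  have ha0 : (a : ℂ) = 0 := by rw [← ha _ hne, hz _ hne]
  have ha0' : a = 0 := by exact_mod_cast ha0
  have hmn : m = n := by
    have : (m : ℂ) = n := by rw [← hm', hn]
    exact_mod_cast this
  rw [ha0', hmn] at hma
  have h3 := hma
  unfold Int.ModEq at h3
  omega

end comp

/-- **The elements of order 3 commuting with an element of order 7.** -/
theorem val_ne {X : Type u} [Group X] [Finite X] (hX : Spor.IsoSuz X) {ψ : X → ℂ} (hψ : IsIrrCharacter X ψ)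
    (h1 : ψ 1 = 110) {z y : X} (hy : orderOf y = 7) (hz : orderOf z = 3) (hc : Commute z y) : ψ z ≠ -25 := by
  classical
  intro hval
  have h7 : Fact (Nat.Prime 7) := ⟨by norm_num⟩
  have hcard : Nat.card X = 448345497600 := by
    obtain ⟨e⟩ := hX
    rw [Nat.card_congr e.toEquiv, H812.SuzSeven.card_Suz]
  have hpg : IsPGroup 7 (zpowers y) := by
    apply IsPGroup.of_card (n := 1)
    rw [Nat.card_zpowers, hy, pow_one]
  obtain ⟨P, hyP⟩ := hpg.exists_le_sylow
  have hP : Nat.card P = 7 := by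
    have := J2Type.SylowSeven.card_sylow P 1 64049356800 (by rw [hcard]; norm_num) (by norm_num)
    rw [this]; norm_num
  have hPy : (P : Subgroup X) = zpowers y := by
    symm
    apply Subgroup.eq_of_le_of_card_ge hyP
    rw [Nat.card_zpowers, hy]
    exact hP.le
  obtain ⟨⟨f⟩, -⟩ := H812.SuzSeven.main hX P
  obtain ⟨K, hK⟩ := exists_isComp P hP
  obtain ⟨g⟩ := isComp_equiv hK hP f
  have hzK : z ∈ K := by
    rw [hK]
    refine ⟨?_, by rw [hz]; norm_num⟩
    rw [mem_centralizer_iff]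
    intro x hx
    have hx' : x ∈ zpowers y := by rw [← hPy]; exact hx
    obtain ⟨k, rfl⟩ := mem_zpowers_iff.1 hx'
    exact (hc.symm.zpow_left k).eq
  have hz' : orderOf (⟨z, hzK⟩ : K) = 3 := by rw [← Subgroup.orderOf_coe, hz]
  obtain ⟨o, a, b, θ, ho, ha1, hb1, hθ1, hsum, hθz, hab, him, hao, hbo⟩ := exists_table g hz'
  have : Finite (IrrCharacter K) := finite_irr
  have := Fintype.ofFinite (IrrCharacter K)
  let χ : IrrCharacter X := ⟨ψ, hψ⟩
  have hχ : (χ : X → ℂ) = ψ := rfl
  obtain ⟨no, hno, mo⟩ := exists_mult hK hP χ o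
  obtain ⟨na, hna, ma⟩ := exists_mult hK hP χ a
  obtain ⟨nb, hnb, mb⟩ := exists_mult hK hP χ b
  obtain ⟨nt, hnt, mt⟩ := exists_mult hK hP χ θ
  rw [hχ] at hno hna hnb hnt
  have hdeg : ¬ 7 ∣ charDegree (χ : X → ℂ) := by
    have h2 : charDegree (χ : X → ℂ) = 110 := by
      unfold charDegree
      rw [hχ, h1]
      norm_num
    rw [h2]
    norm_num
  obtain ⟨θ', hθ'⟩ := H348.PPD.Part.exists_over hK hP hdeg
  have e1 := sum_part (isIrr_isClassFunction hψ) (x := (1 : X)) (K := K) (by intro y _; rw [one_mul, mul_one]) 1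
  rw [hsum, hno, hna, hnb, hnt, ho, ha1, hb1, hθ1, Subgroup.coe_one, one_mul, h1] at e1
  have e2 := sum_part (isIrr_isClassFunction hψ) (x := (1 : X)) (K := K) (by intro y _; rw [one_mul, mul_one])
    ⟨z, hzK⟩
  rw [hsum, hno, hna, hnb, hnt, ho, hθz, one_mul, hval] at e2
  have E1 : no + na + nb + 3 * nt = 110 := by
    have h2 : ((no + na + nb + 3 * nt : ℕ) : ℂ) = ((110 : ℕ) : ℂ) := by
      push_cast
      rw [Pi.one_apply] at e1
      linear_combination -e1
    exact_mod_cast h2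
  have hab2 : (b : K → ℂ) ⟨z, hzK⟩ = -1 - (a : K → ℂ) ⟨z, hzK⟩ := by linear_combination hab
  rw [hab2, Pi.one_apply] at e2
  have e3 : (((na : ℤ) - nb : ℤ) : ℂ) * (a : K → ℂ) ⟨z, hzK⟩ = ((nb - no - 25 : ℤ) : ℂ) := by
    push_cast
    linear_combination -e2
  have E2 : (na : ℤ) - nb = 0 := by
    have h2 := congrArg Complex.im e3
    rw [Complex.mul_im, Complex.intCast_re, Complex.intCast_im, Complex.intCast_im, zero_mul, add_zero] at h2
    rcases mul_eq_zero.1 h2 with h3 | h3
    · exact_mod_cast h3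
    · exact absurd h3 him
  rw [E2] at e3
  have E3 : ((nb : ℤ) - no - 25) = 0 := by
    rw [Int.cast_zero, zero_mul] at e3
    exact_mod_cast e3.symm
  -- the disjointness
  have hdis : ∀ θ₁ : IrrCharacter K, (∀ n ∈ normalizer ((P : Subgroup X) : Set X),
      tw (θ' : K → ℂ) n ≠ θ₁) → χ ∉ Over P (θ₁ : K → ℂ) := by
    intro θ₁ h3 h4
    exact Set.disjoint_left.1 ((sharp hK hP θ').2 θ₁ h3) hθ' h4
  have hdeg1 : ∀ θ₁ : IrrCharacter K, (θ' : K → ℂ) 1 ≠ (θ₁ : K → ℂ) 1 → χ ∉ Over P (θ₁ : K → ℂ) := by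
    intro θ₁ hne
    apply hdis
    intro n hn h3
    apply hne
    rw [← h3, tw_apply hK _ hn]
    have h4 : ∀ w : K, (w : X) = 1 → (θ' : K → ℂ) 1 = (θ' : K → ℂ) w := by
      intro w hw
      rw [show w = 1 from Subtype.ext hw]
    apply h4
    simp
  have hone : ∀ θ₁ : IrrCharacter K, ((θ' : K → ℂ) = 1 ∨ (θ₁ : K → ℂ) = 1) → θ' ≠ θ₁ → χ ∉ Over P (θ₁ : K → ℂ) := by
    intro θ₁ h3 hne
    apply hdis
    intro n hn h4
    apply hne
    rcases h3 with h3 | h3
    · rw [h3, tw_one_char hK hn] at h4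
      exact Subtype.ext (h3.trans h4)
    · apply Subtype.ext
      have h2 : tw (tw (θ' : K → ℂ) n) n⁻¹ = θ' := by
        rw [← tw_mul hK _ hn (inv_mem hn), mul_inv_cancel, tw_one]
      rw [← h2, h4, h3]
      exact tw_one_char hK (inv_mem hn)
  have hall : θ' = o ∨ θ' = a ∨ θ' = b ∨ θ' = θ := by
    by_contra hcon
    push Not at hcon
    have h3 := hsum ℕ (fun c => if c = θ' then 1 else 0)
    rw [Finset.sum_ite_eq' Finset.univ θ', if_pos (Finset.mem_univ _), if_neg (Ne.symm hcon.1),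
      if_neg (Ne.symm hcon.2.1), if_neg (Ne.symm hcon.2.2.1), if_neg (Ne.symm hcon.2.2.2)] at h3
    omega
  rcases hall with rfl | rfl | rfl | rfl
  · have c1 := ma (hone a (Or.inl ho) hao.symm)
    have c2 := mb (hone b (Or.inl ho) hbo.symm)
    have c3 := mt (hdeg1 θ (by rw [ho, hθ1]; norm_num))
    omega
  · have c1 := mo (hone o (Or.inr ho) hao)
    have c3 := mt (hdeg1 θ (by rw [ha1, hθ1]; norm_num))
    omega
  · have c1 := mo (hone o (Or.inr ho) hbo)
    have c3 := mt (hdeg1 θ (by rw [hb1, hθ1]; norm_num))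
    omega
  · have c1 := mo (hdeg1 o (by rw [ho, hθ1]; norm_num))
    have c2 := ma (hdeg1 a (by rw [ha1, hθ1]; norm_num))
    omega

end Cfsg.Agent.H365.S8.SuzSevenVal
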